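import Cfsg.Agent.H935.F4.Deg
import Cfsg.Agent.H190.Cov.Two.Facts
import Cfsg.Agent.H686.QA.TwE62
import Cfsg.Agent.H648.Loc.E6Cent
import Cfsg.Agent.H777.Ore.Base

/-!
# The sieve at the prime 13 in the covers of `²E₆(2)` (helper935; box of F4 of S2491)

* `deg_cover` : the nontrivial irreducible characters of a perfect central extension of `²E₆(2)` have degree at least 1536;
* `card_cent` : the centralizer of an element of order 13 has order 13;
* `isC_of_card` : an element whose image has a centralizer of order at most 1260 is a commutator.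
-/

set_option autoImplicit false

open Cfsg Cfsg.Lie

namespace Cfsg.Agent.H935.F4

open Subgroup Cfsg.Agent.Characters
open Cfsg.Agent.TwoESix.LeviA Cfsg.Agent.TwoESix.LeviC Cfsg.Agent.TwoESix.LeviD Cfsg.Agent.TwoESix.FlagH
open Cfsg.Agent.TwoESix.KeyExtra Cfsg.Agent.TwoESix.LongPairs Cfsg.Agent.TwoESix.LongCard Cfsg.Agent.TwoESix.SheetA
open Cfsg.Agent.H51.Mult (PCE)
open Cfsg.Agent.H777.Ore (IsC)

universe u

theorem perfect_of_simple {G : Type u} [Group G] [IsSimpleGroup G] (hG : ¬ IsMulCommutative G) : commutator G = ⊤ := by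
  rcases (inferInstance : (commutator G).Normal).eq_bot_or_eq_top with h | h
  · exfalso
    apply hG
    rw [commutator_def, commutator_eq_bot_iff_le_centralizer] at h
    refine ⟨⟨fun a b => ?_⟩⟩
    exact (mem_centralizer_iff.1 (h (mem_top a)) b (mem_top b)).symm
  · exact h

theorem deg_cover {K : Type} [Field K] [Fintype K] (hK : Fintype.card K = 4) {L : Type u} [Group L] [Finite L]
    {π : L →* ↥(twistedE6 K 2)} (hπ : PCE π) (χ : IrrCharacter L) (hχ : (χ : L → ℂ) ≠ 1) :
    1536 ≤ charDegree (χ : L → ℂ) := by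
  have hq : IsPrimePow 2 := Nat.prime_two.isPrimePow
  have hK' : Fintype.card K = 2 ^ 2 := by rw [hK]; norm_num
  have hs : IsSimpleGroup ↥(twistedE6 K 2) := (Cfsg.Agent.S1070.result hq hK').1
  have : Finite (GL chevE6.Idx K) := inferInstance
  obtain ⟨hchar, φ, F⟩ := exists_four K hK
  have hf : ∃ k : ↥(twistedE6 K 2), k * r0 F * k⁻¹ ∈ RE K ∧ k * r0 F * k⁻¹ ≠ r0 F := by
    refine ⟨we F [0], ?_, ?_⟩
    · rw [we_zero F]
      exact c_R F
    · rw [we_zero F]
      intro h
      obtain ⟨y, hy, h1, -⟩ := exists_move' F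
      apply h1
      rw [h, hy, mul_inv_cancel_right]
  obtain ⟨d, hd, hd'⟩ := deg_ge (large F) (irr F) (perf F) hf hπ χ hχ
  have h1 := Cfsg.Agent.H686.QA.card_RE_ge hK
  rw [← hd] at h1
  have h2 : 1024 ≤ d := by
    by_contra hlt
    push Not at hlt
    have h3 : d ≤ 1023 := by omega
    have h4 : d ^ 2 ≤ 1023 ^ 2 := Nat.pow_le_pow_left h3 2
    omega
  omega

theorem card_cent {K : Type} [Field K] [Fintype K] (hK : Fintype.card K = 4) {x : ↥(twistedE6 K 2)} (hx : orderOf x = 13) :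
    Nat.card (centralizer ({x} : Set ↥(twistedE6 K 2))) = 13 := by
  have hK' : Fintype.card K = 2 ^ 2 := by rw [hK]; norm_num
  have h1 := (Cfsg.Agent.H190.Odd.exact_te6_12 Nat.prime_two.isPrimePow hK' (by norm_num)
    Cfsg.Agent.H190.Cov.Two.prim13 hx).1
  have h2 : Nat.card (centralizer ({x} : Set ↥(twistedE6 K 2))) ∣ 13 :=
    Nat.dvd_of_mul_dvd_mul_left (k := 3) (by norm_num) (h1.trans (by norm_num))
  have h3 : 13 ∣ Nat.card (centralizer ({x} : Set ↥(twistedE6 K 2))) := by
    rw [← hx]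
    have h4 : zpowers x ≤ centralizer ({x} : Set ↥(twistedE6 K 2)) := by
      rw [zpowers_le, mem_centralizer_singleton_iff]
    have h5 := card_dvd_of_le h4
    rwa [Nat.card_zpowers] at h5
  exact Nat.dvd_antisymm h2 h3

/-- **The sieve.** -/
theorem isC_of_card {K : Type} [Field K] [Fintype K] (hK : Fintype.card K = 4) {L : Type u} [Group L] [Finite L]
    {π : L →* ↥(twistedE6 K 2)} (hπ : PCE π) (hk : Nat.card π.ker ≤ 12) {g : L}
    (hg : Nat.card (centralizer ({π g} : Set ↥(twistedE6 K 2))) ≤ 1260) : IsC g := by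
  have hq : IsPrimePow 2 := Nat.prime_two.isPrimePow
  have hK' : Fintype.card K = 2 ^ 2 := by rw [hK]; norm_num
  have hs : IsSimpleGroup ↥(twistedE6 K 2) := (Cfsg.Agent.S1070.result hq hK').1
  have hc : ¬ IsMulCommutative ↥(twistedE6 K 2) := (Cfsg.Agent.S1070.result hq hK').2
  have hN := Cfsg.Agent.BabyU.CentT1.card_E K hK
  have hfin : Finite ↥(twistedE6 K 2) := Nat.finite_of_card_ne_zero (by rw [hN]; norm_num)
  have : Fact (Nat.Prime 13) := ⟨by norm_num⟩
  obtain ⟨x₀, hx₀⟩ := exists_prime_orderOf_dvd_card' (G := ↥(twistedE6 K 2)) 13 (by rw [hN]; norm_num)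
  have h13 : ¬ 13 ∣ Nat.card π.ker := fun h => by
    have := Nat.le_of_dvd Nat.card_pos h
    omega
  obtain ⟨hSZ, x, hx, -⟩ := Cfsg.Agent.H113.QS.SZ.lift hc hπ.surj hπ.cen (by norm_num : Nat.Prime 13) hN hx₀
    (card_cent hK hx₀) h13 12 1 13 (by decide +kernel)
  have hid : PCE (MonoidHom.id ↥(twistedE6 K 2)) := by
    refine ⟨Function.surjective_id, ?_, ?_⟩
    · intro a ha
      rw [MonoidHom.mem_ker, MonoidHom.id_apply] at ha
      rw [ha]
      exact one_mem _
    · exact perfect_of_simple hc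
  have h := hSZ.prd_two hπ.surj hπ.cen hx (y := x⁻¹) (g := g) (by rw [orderOf_inv, hx]) (m := 12) (d₁ := 1536) (d₂ := 1536)
    (c := 1260) 123 128 hk (fun ψ h1 _ => deg_cover hK hid ψ h1) (fun χ h1 _ => deg_cover hK hπ χ (by
      rintro h2
      obtain ⟨z, -, hz⟩ := h1
      rw [h2] at hz
      exact hz rfl)) hg (by norm_num)
  exact h.comm

end Cfsg.Agent.H935.F4
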