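import Cfsg.Agent.H935.F4.Sieve
import Cfsg.Agent.H231.QF.Defs
import Cfsg.Agent.H59.ESixField

/-!
# The sieve of the row F4 in the form of the stubs of helper231 (helper935)

* `sieve` : all universes, kernel of order dividing 12.
-/

set_option autoImplicit false

namespace Cfsg.Agent.H935.F4

open Cfsg.Lie Subgroup
open Cfsg.Agent.H51.Mult (PCE)
open Cfsg.Agent.H777.Ore (IsC)
open Cfsg.Agent.H231.QF

universe u v w

theorem card_centralizer_equiv {A : Type u} {B : Type v} [Group A] [Group B] (e : A ≃* B) (a : A) :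
    Nat.card (centralizer ({e a} : Set B)) = Nat.card (centralizer ({a} : Set A)) := by
  refine (Nat.card_congr (Equiv.subtypeEquiv e.toEquiv fun x => ?_)).symm
  simp only [MulEquiv.toEquiv_eq_coe, EquivLike.coe_coe, mem_centralizer_singleton_iff]
  rw [← map_mul, ← map_mul, e.injective.eq_iff]

/-- the sieve, all universes -/
theorem sieve {F : Type u} [Field F] [Fintype F] (hF : Fintype.card F = 4) {L : Type v} [Group L] [Finite L]
    {π : L →* KK F} (hπ : PCE π) (hk : Nat.card π.ker ∣ 12) (g : L) (_h1 : π g ≠ 1) (h : Sm (π g)) : IsC g := by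
  obtain ⟨K, i1, i2, ⟨f⟩⟩ := Cfsg.Agent.H59.ESixField.exists_type F
  have hK : Fintype.card K = 4 := by rw [← hF]; exact (Fintype.card_congr f.toEquiv).symm
  let e : KK F ≃* KK K := Cfsg.Agent.H59.ESixField.equiv f 2
  have hker : (e.toMonoidHom.comp π).ker = π.ker := by
    ext x
    rw [MonoidHom.mem_ker, MonoidHom.mem_ker, MonoidHom.comp_apply]
    exact map_eq_one_iff e e.injective
  have hP : PCE (e.toMonoidHom.comp π) := by
    refine ⟨e.surjective.comp hπ.surj, ?_, hπ.perf⟩
    rw [hker]
    exact hπ.cen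
  refine isC_of_card hK hP (by rw [hker]; exact Nat.le_of_dvd (by norm_num) hk) (g := g) ?_
  have h2 := card_centralizer_equiv e (π g)
  have h3 : (e.toMonoidHom.comp π) g = e (π g) := rfl
  rw [h3, h2]
  exact h

end Cfsg.Agent.H935.F4
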